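import Groth.Agent.FCompl.K29.RSec
import Groth.Agent.ModSite.K292.Sp

/-!
# Extensions of the structure sheaf glued from sections

`T` a space with a sheaf of rings `R`, `F` an `R`-module, `V i` (`i : I`) an open cover with `V i ⊓ V j ≤ U` for `i ≠ j`,
`s i` sections of `F` over `U`.  There is an extension `0 ⟶ F ⟶ G ⟶ R ⟶ 0` with sections `g i` of `G` over `V i` which map
to `1` and satisfy `g i - g j = s i - s j` over `U`.
-/

set_option autoImplicit false
universe u

open CategoryTheory CategoryTheory.Limits Opposite TopologicalSpace K29.RSec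

noncomputable section

namespace Groth.Agent.Refuted.K306.CocExt

variable {I : Type u} {T : TopCat.{u}} {R : Sheaf (Opens.grothendieckTopology T) CommRingCat.{u}} (F : Mod R)
  {U : Opens T} {V : I → Opens T} (hint : ∀ i j, i ≠ j → V i ⊓ V j ≤ U) (s : I → Sec F U)

/-- The compatibility condition. -/
def Cond (W : Opens T) (p : (∀ i, Sec F (W ⊓ V i)) × O R W) : Prop :=
  ∀ (i j : I) (hij : i ≠ j) (W' : Opens T) (h₁ : W' ≤ W ⊓ V i) (h₂ : W' ≤ W ⊓ V j),
    res F h₁ (p.1 i) - res F h₂ (p.1 j) = resO (h₁.trans inf_le_left) p.2 •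
      (res F ((le_inf (h₁.trans inf_le_right) (h₂.trans inf_le_right)).trans (hint i j hij)) (s j) -
        res F ((le_inf (h₁.trans inf_le_right) (h₂.trans inf_le_right)).trans (hint i j hij)) (s i))

/-- The group of sections. -/
def Grp (W : Opens T) : AddSubgroup ((∀ i, Sec F (W ⊓ V i)) × O R W) where
  carrier := {p | Cond F hint s W p}
  zero_mem' := by
    intro i j hij W' h₁ h₂
    change res F h₁ 0 - res F h₂ 0 = resO _ 0 • _
    rw [map_zero, map_zero, map_zero, zero_smul, sub_zero]
  add_mem' := by
    intro p q hp hq i j hij W' h₁ h₂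
    have e₁ := hp i j hij W' h₁ h₂
    have e₂ := hq i j hij W' h₁ h₂
    change res F h₁ (p.1 i + q.1 i) - res F h₂ (p.1 j + q.1 j) = resO _ (p.2 + q.2) • _
    rw [map_add, map_add, map_add, add_smul, ← e₁, ← e₂]
    abel
  neg_mem' := by
    intro p hp i j hij W' h₁ h₂
    have e₁ := hp i j hij W' h₁ h₂
    change res F h₁ (- p.1 i) - res F h₂ (- p.1 j) = resO _ (- p.2) • _
    rw [map_neg, map_neg, map_neg, neg_smul, ← e₁]
    abel

/-- The sections over `W`. -/
abbrev S (W : Opens T) : Type u := Grp F hint s W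

instance (W : Opens T) : SMul (O R W) (S F hint s W) where
  smul c p := ⟨(fun i => resO (inf_le_left : W ⊓ V i ≤ W) c • p.1.1 i, c * p.1.2), by
    intro i j hij W' h₁ h₂
    have e₁ := p.2 i j hij W' h₁ h₂
    change res F h₁ (resO inf_le_left c • p.1.1 i) - res F h₂ (resO inf_le_left c • p.1.1 j) =
      resO _ (c * p.1.2) • _
    rw [res_smul, res_smul, resO_resO, resO_resO, map_mul, mul_smul, ← e₁, smul_sub]⟩

theorem smul_fst {W : Opens T} (c : O R W) (p : S F hint s W) (i : I) :
    (c • p).1.1 i = resO (inf_le_left : W ⊓ V i ≤ W) c • p.1.1 i := rfl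

theorem smul_snd {W : Opens T} (c : O R W) (p : S F hint s W) : (c • p).1.2 = c * p.1.2 := rfl

variable {F hint s} in
theorem ext' {W : Opens T} {p q : S F hint s W} (h : ∀ i, p.1.1 i = q.1.1 i) (h' : p.1.2 = q.1.2) : p = q :=
  Subtype.ext (Prod.ext (funext h) h')

instance (W : Opens T) : Module (O R W) (S F hint s W) where
  one_smul p := ext' (fun i => by rw [smul_fst, map_one, one_smul]) (by rw [smul_snd, one_mul])
  mul_smul c d p := ext' (fun i => by rw [smul_fst, smul_fst, smul_fst, map_mul, mul_smul])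
    (by rw [smul_snd, smul_snd, smul_snd, mul_assoc])
  smul_zero c := ext' (fun i => smul_zero _) (mul_zero _)
  smul_add c p q := ext' (fun i => smul_add _ _ _) (mul_add _ _ _)
  add_smul c d p := ext' (fun i => by
      rw [smul_fst, map_add, add_smul]; rfl) (add_mul _ _ _)
  zero_smul p := ext' (fun i => by rw [smul_fst, map_zero, zero_smul]; rfl) (zero_mul _)

/-- Restriction. -/
def r {W W' : Opens T} (h : W' ≤ W) : S F hint s W →+ S F hint s W' where
  toFun p := ⟨(fun i => res F (inf_le_inf_right _ h) (p.1.1 i), resO h p.1.2), by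
    intro i j hij W'' h₁ h₂
    have e₁ := p.2 i j hij W'' (h₁.trans (inf_le_inf_right _ h)) (h₂.trans (inf_le_inf_right _ h))
    change res F h₁ (res F _ (p.1.1 i)) - res F h₂ (res F _ (p.1.1 j)) = resO _ (resO h p.1.2) • _
    rw [res_res, res_res, resO_resO, e₁]⟩
  map_zero' := ext' (fun i => map_zero _) (map_zero _)
  map_add' p q := ext' (fun i => map_add _ _ _) (map_add _ _ _)

theorem r_fst {W W' : Opens T} (h : W' ≤ W) (p : S F hint s W) (i : I) :
    (r F hint s h p).1.1 i = res F (inf_le_inf_right _ h) (p.1.1 i) := rfl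

theorem r_snd {W W' : Opens T} (h : W' ≤ W) (p : S F hint s W) :
    (r F hint s h p).1.2 = resO h p.1.2 := rfl

/-- Sections of the unit module. -/
def one (W : Opens T) : Sec (ModSite.unit R) W := (1 : O R W)

/-- The gluing data. -/
def data : Data R where
  S W := S F hint s W
  r h := r F hint s h
  r_self h p := ext' (fun i => by rw [r_fst]; exact res_self F _ _) (by rw [r_snd]; exact resO_self _ _)
  r_r h h' p := ext' (fun i => by rw [r_fst, r_fst, r_fst, res_res]) (by rw [r_snd, r_snd, r_snd, resO_resO])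
  r_smul h a p := ext' (fun i => by rw [r_fst, smul_fst, smul_fst, r_fst, res_smul, resO_resO, resO_resO])
    (by rw [r_snd, smul_snd, smul_snd, r_snd, map_mul])
  ext {ι} W p q h := by
    refine ext' (fun i => ?_) ?_
    · refine eq_of_locally F (fun k => W k ⊓ V i) _ ?_ (fun k => inf_le_inf_right _ (le_iSup W k)) _ _
        fun k => congrArg (fun t => t.1.1 i) (h k)
      rw [← iSup_inf_eq]
    · exact eq_of_locally (ModSite.unit R) W _ le_rfl (fun k => le_iSup W k) p.1.2 q.1.2
        fun k => congrArg (fun t => t.1.2) (h k)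
  glue {ι} W p h := by
    have hF : ∀ i, ∃ t : Sec F ((⨆ k, W k) ⊓ V i), ∀ k, res F (inf_le_inf_right _ (le_iSup W k)) t = (p k).1.1 i := by
      intro i
      refine exists_glue F (fun k => W k ⊓ V i) _ ?_ (fun k => inf_le_inf_right _ (le_iSup W k))
        (fun k => (p k).1.1 i) fun k l W' hk hl => ?_
      · rw [← iSup_inf_eq]
      · have h1 : res F _ ((p k).1.1 i) = res F _ ((p l).1.1 i) := congrArg (fun t => t.1.1 i) (h k l)
        have h2 := congrArg (res F (show W' ≤ (W k ⊓ W l) ⊓ V i from
          le_inf (le_inf (hk.trans inf_le_left) (hl.trans inf_le_left)) (hk.trans inf_le_right))) h1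
        rw [res_res, res_res] at h2
        exact h2
    choose t ht using hF
    obtain ⟨c, hc⟩ : ∃ c : O R (⨆ k, W k), ∀ k, resO (le_iSup W k) c = (p k).1.2 :=
      exists_glue (ModSite.unit R) W _ le_rfl (fun k => le_iSup W k) (fun k => (p k).1.2)
      (fun k l W' hk hl => by
        have h1 : resO _ ((p k).1.2) = resO _ ((p l).1.2) := congrArg (fun t => t.1.2) (h k l)
        have h2 := congrArg (resO (le_inf hk hl : W' ≤ W k ⊓ W l)) h1
        rw [resO_resO, resO_resO] at h2
        exact h2)
    refine ⟨⟨(t, c), ?_⟩, fun k => ext' (fun i => ht i k) (hc k)⟩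
    intro i j hij W' h₁ h₂
    refine eq_of_locally F (fun k => W' ⊓ W k) W' ?_ (fun k => inf_le_left) _ _ fun k => ?_
    · rw [← inf_iSup_eq]
      exact le_inf le_rfl (h₁.trans inf_le_left)
    · have e₁ := (p k).2 i j hij (W' ⊓ W k) (le_inf inf_le_right (inf_le_left.trans (h₁.trans inf_le_right)))
        (le_inf inf_le_right (inf_le_left.trans (h₂.trans inf_le_right)))
      rw [← ht i k, ← ht j k, ← hc k, res_res, res_res, resO_resO] at e₁
      rw [map_sub, res_res, res_res, e₁, res_smul, resO_resO, map_sub, res_res, res_res]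

/-- The extension. -/
def G : Mod R := (data F hint s).toMod

/-- The inclusion. -/
def f : F ⟶ G F hint s :=
  homMk (M := F) (N := G F hint s) (fun W => AddMonoidHom.mk'
      (fun a => (⟨(fun i => res F inf_le_left a, 0), by
        intro i j hij W' h₁ h₂
        change res F h₁ (res F _ a) - res F h₂ (res F _ a) = resO _ 0 • _
        rw [res_res, res_res, sub_self, map_zero, zero_smul]⟩ : S F hint s W))
      (fun a b => ext' (fun i => map_add _ _ _) (add_zero _).symm))
    (fun W c a => ext' (fun i => res_smul F _ _ _) (mul_zero _).symm)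
    (fun W W' h a => ext' (fun i => by
      change res F _ (res F h a) = res F _ (res F _ a)
      rw [res_res, res_res]) (map_zero (resO h)).symm)

/-- The projection. -/
def g : G F hint s ⟶ ModSite.unit R :=
  homMk (M := G F hint s) (N := ModSite.unit R) (fun W => AddMonoidHom.mk' (fun p : S F hint s W => p.1.2)
      (fun _ _ => rfl))
    (fun _ _ _ => rfl) (fun _ _ _ _ => rfl)

theorem w : f F hint s ≫ g F hint s = 0 := hom_ext fun _ _ => rfl

variable (hcov : ⨆ i, V i = ⊤)

open Classical in
/-- The local section over `W ≤ V i`. -/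
def loc {i : I} {W : Opens T} (h : W ≤ V i) (c : O R W) : S F hint s W :=
  ⟨(fun j => if hj : i = j then 0 else
      resO (inf_le_left : W ⊓ V j ≤ W) c •
        (res F ((inf_le_inf_right _ h).trans (hint i j hj)) (s i) -
          res F ((inf_le_inf_right _ h).trans (hint i j hj)) (s j)), c), by
    intro j k hjk W' h₁ h₂
    dsimp only
    split_ifs with hj hk hk
    · exact absurd (hj.symm.trans hk) hjk
    · subst hj
      rw [map_zero, zero_sub, res_smul, resO_resO, map_sub, res_res, res_res, ← smul_neg, neg_sub]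
    · subst hk
      rw [map_zero, sub_zero, res_smul, resO_resO, map_sub, res_res, res_res]
    · rw [res_smul, res_smul, resO_resO, resO_resO, map_sub, map_sub, res_res, res_res, res_res, res_res, ← smul_sub]
      congr 1
      abel⟩

include hcov in
theorem shortExact : (ShortComplex.mk (f F hint s) (g F hint s) (w F hint s)).ShortExact := by
  have hcovW : ∀ W : Opens T, W ≤ ⨆ i, W ⊓ V i := fun W => by
    rw [← inf_iSup_eq, hcov, inf_top_eq]
  have hinj : ∀ (W : Opens T) (a : Sec F W), app (f F hint s) W a = 0 → a = 0 := by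
    intro W a ha
    refine eq_of_locally F (fun i => W ⊓ V i) W (hcovW W) (fun i => inf_le_left) _ _ fun i => ?_
    have h1 : res F _ a = 0 := congrArg (fun p : S F hint s W => p.1.1 i) ha
    rw [h1, map_zero]
  refine
    { exact := ?_
      mono_f := ?_
      epi_g := ?_ }
  · refine K292.Sp.exact_of_loc fun W p hp x hx => ?_
    have hp' : (show S F hint s W from p).1.2 = 0 := hp
    obtain ⟨a, ha⟩ := exists_glue F (fun i => W ⊓ V i) W (hcovW W) (fun i => inf_le_left)
      (fun i => (show S F hint s W from p).1.1 i) (fun i j W' hi hj => by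
        by_cases hij : i = j
        · subst hij; rfl
        · have h1 := (show S F hint s W from p).2 i j hij W' hi hj
          rw [hp', map_zero, zero_smul, sub_eq_zero] at h1
          exact h1)
    refine ⟨W, le_rfl, hx, a, ?_⟩
    have h2 : app (f F hint s) W a = p := ext' (fun i => ha i) hp'.symm
    exact h2.trans (res_self (G F hint s) le_rfl p).symm
  · exact (K292.Sp.mono_iff_inj _).2 fun W a ha => hinj W a ha
  · refine (K292.Sp.epi_iff_loc _).2 fun W c x hx => ?_
    obtain ⟨i, hi⟩ := Opens.mem_iSup.1 (show x ∈ ⨆ i, V i by rw [hcov]; trivial)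
    refine ⟨W ⊓ V i, inf_le_left, ⟨hx, hi⟩, loc F hint s inf_le_right (resO inf_le_left c), rfl⟩

include hcov hint in
/-- The extension with its local sections. -/
theorem exists_ext (hU : ∀ i, U ≤ V i) : ∃ (G : Mod R) (f : F ⟶ G) (g : G ⟶ ModSite.unit R) (w : f ≫ g = 0)
    (_ : (ShortComplex.mk f g w).ShortExact) (t : ∀ i, Sec G (V i)),
    (∀ i, app g (V i) (t i) = one (V i)) ∧
      ∀ i j, res G (hU i) (t i) - res G (hU j) (t j) = app f U (s i - s j) := by
  refine ⟨G F hint s, f F hint s, g F hint s, w F hint s, shortExact F hint s hcov,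
    fun i => loc F hint s le_rfl 1, fun i => rfl, fun i j => ?_⟩
  refine ext' (fun k => ?_) ?_
  · change res F _ ((loc F hint s (le_refl (V i)) 1).1.1 k) - res F _ ((loc F hint s (le_refl (V j)) 1).1.1 k) =
      res F _ (s i - s j)
    have key : ∀ i : I, res F (inf_le_inf_right (V k) (hU i)) ((loc F hint s (le_refl (V i)) 1).1.1 k) =
        res F inf_le_left (s i) - res F inf_le_left (s k) := by
      intro i
      dsimp only [loc]
      split_ifs with h
      · subst h
        rw [map_zero, sub_self]
      · rw [res_smul, map_one, map_one, one_smul, map_sub, res_res, res_res]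
    rw [key i, key j, map_sub]
    abel
  · change resO _ 1 - resO _ 1 = (0 : O R U)
    rw [map_one, map_one, sub_self]

include hcov hint in
/-- The form of `K573.NotInd.not_ind`: the sections `s i` restrict to `v + f (σ i)` over `U`. -/
theorem exists_ext' [Nonempty I] (hU : ∀ i, U ≤ V i) : ∃ (G : Mod R) (f : F ⟶ G) (g : G ⟶ ModSite.unit R)
    (w : f ≫ g = 0) (_ : (ShortComplex.mk f g w).ShortExact) (t : ∀ i, Sec G (V i)) (v : Sec G U),
    (∀ i, app g (V i) (t i) = one (V i)) ∧ ∀ i, res G (hU i) (t i) = v + app f U (s i) := by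
  obtain ⟨G, f, g, w, hS, t, h1, h2⟩ := exists_ext F hint s hcov hU
  obtain ⟨i₀⟩ := ‹Nonempty I›
  refine ⟨G, f, g, w, hS, t, res G (hU i₀) (t i₀) - app f U (s i₀), h1, fun i => ?_⟩
  have h3 := h2 i i₀
  rw [map_sub] at h3
  have h4 := sub_eq_sub_iff_add_eq_add.1 h3
  rw [sub_add_eq_add_sub, eq_sub_iff_add_eq, h4, add_comm]

end Groth.Agent.Refuted.K306.CocExt
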