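import Mathlib

set_option autoImplicit false

/-!
The algebra behind the refutation of S17024: `V ⊆ K = V[1/x]`, `⋂ xʳV = 0`; the "essential singularity"
`F = ∑ tⁿ x^(-n²)` in `K⟦t⟧` satisfies `h F ∉ V⟦t⟧` for every non-zero `h` in `V⟦t⟧`.
-/

namespace Groth.Agent.Refuted.K306.EssSing

variable {V K : Type*} [CommRing V] [CommRing K]

/-- `∑ tⁿ y^(n²)` -/
noncomputable def F (y : K) : PowerSeries K := PowerSeries.mk fun n => y ^ (n ^ 2)

theorem eq_zero_of_map_mul_F (ι : V →+* K) (hι : Function.Injective ι) (x : V) (y : K)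
    (hxy : ι x * y = 1) (hsep : ∀ a : V, (∀ r : ℕ, x ^ r ∣ a) → a = 0) (h g : PowerSeries V)
    (H : PowerSeries.map ι h * F y = PowerSeries.map ι g) : h = 0 := by
  by_contra hs
  obtain ⟨m, hm⟩ : ∃ m : ℕ, h.order = (m : ℕ∞) := ⟨h.order.toNat, by
    rw [ENat.natCast_toNat]; exact fun h' => hs (PowerSeries.order_eq_top.mp h')⟩
  have hsm : PowerSeries.coeff m h ≠ 0 := ((PowerSeries.order_eq_nat).mp hm).1
  have hlt : ∀ i < m, PowerSeries.coeff i h = 0 := ((PowerSeries.order_eq_nat).mp hm).2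
  apply hsm
  apply hsep
  intro r
  obtain ⟨n, hn⟩ : ∃ n, n = r + 1 := ⟨_, rfl⟩
  have h1 := congrArg (fun q => ι x ^ (n ^ 2) * PowerSeries.coeff (m + n) q) H
  simp only [PowerSeries.coeff_map, PowerSeries.coeff_mul, F, PowerSeries.coeff_mk] at h1
  -- every term lies in `V`
  have key : ∀ p ∈ Finset.HasAntidiagonal.antidiagonal (m + n),
      ι x ^ (n ^ 2) * (ι (PowerSeries.coeff p.1 h) * y ^ (p.2 ^ 2)) =
        ι (if p.2 ≤ n then x ^ (n ^ 2 - p.2 ^ 2) * PowerSeries.coeff p.1 h else 0) := by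
    rintro ⟨i, j⟩ hij
    rw [Finset.HasAntidiagonal.mem_antidiagonal] at hij
    dsimp only at hij ⊢
    split_ifs with hj
    · have hle : j ^ 2 ≤ n ^ 2 := Nat.pow_le_pow_left hj 2
      obtain ⟨d, hd⟩ := Nat.exists_eq_add_of_le hle
      have hy : ι x ^ (j ^ 2) * y ^ (j ^ 2) = 1 := by rw [← mul_pow, hxy, one_pow]
      rw [hd, Nat.add_sub_cancel_left, map_mul, map_pow, pow_add]
      calc ι x ^ j ^ 2 * ι x ^ d * (ι (PowerSeries.coeff i h) * y ^ j ^ 2)
          = (ι x ^ (j ^ 2) * y ^ (j ^ 2)) * (ι x ^ d * ι (PowerSeries.coeff i h)) := by ring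
        _ = _ := by rw [hy, one_mul]
    · rw [hlt i (by omega), map_zero, zero_mul, mul_zero]
  rw [Finset.mul_sum, Finset.sum_congr rfl key, ← map_sum, ← map_pow, ← map_mul] at h1
  have h2 := hι h1
  rw [← Finset.add_sum_erase _ _ (show ((m, n) : ℕ × ℕ) ∈ Finset.HasAntidiagonal.antidiagonal (m + n) by
    rw [Finset.HasAntidiagonal.mem_antidiagonal])] at h2
  simp only [le_refl, if_true, Nat.sub_self, pow_zero, one_mul] at h2
  have h3 : x ^ r ∣ x ^ (n ^ 2) * PowerSeries.coeff (m + n) g :=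
    Dvd.dvd.mul_right (pow_dvd_pow x (by rw [hn]; nlinarith)) _
  rw [← h2] at h3
  refine (dvd_add_left (Finset.dvd_sum ?_)).mp h3
  rintro ⟨i, j⟩ hij
  rw [Finset.mem_erase, Finset.HasAntidiagonal.mem_antidiagonal] at hij
  dsimp only at hij ⊢
  split_ifs with hj
  · rcases eq_or_lt_of_le hj with hj' | hj'
    · exact absurd (by rw [Prod.mk.injEq]; omega) hij.1
    · refine Dvd.dvd.mul_right (pow_dvd_pow x ?_) _
      have h4 : j ^ 2 ≤ r ^ 2 := Nat.pow_le_pow_left (by omega) 2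
      have h5 : n ^ 2 = r ^ 2 + 2 * r + 1 := by rw [hn]; ring
      omega
  · exact dvd_zero _

end Groth.Agent.Refuted.K306.EssSing
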